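import Mathlib.RingTheory.DividedPowers.DPMorphism
import Mathlib.Logic.Small.Set
import Mathlib.Algebra.Ring.Shrink

/-!
# Divided power envelopes

The envelope is the image of an algebra of terms in the product of all the divided power rings receiving the data.
-/

set_option autoImplicit false

universe u

noncomputable section

namespace Groth.Agent.DPEnvelope

open Finset

variable {A B : Type u} [CommRing A] [CommRing B] [Algebra A B] {I : Ideal A} (γ : DividedPowers I) (J : Ideal B)

/-- A divided power ring receiving the data. -/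
structure Tgt where
  C : Type u
  [ring : CommRing C]
  [alg : Algebra A C]
  K : Ideal C
  δ : DividedPowers K
  hγ : γ.IsDPMorphism δ (algebraMap A C)
  ψ : B →ₐ[A] C
  hψ : J.map ψ ≤ K

attribute [instance] Tgt.ring Tgt.alg

/-- Terms in divided powers. -/
inductive Term (B : Type u) : Type u
  | of (b : B)
  | add (t t' : Term B)
  | mul (t t' : Term B)
  | neg (t : Term B)
  | dp (n : ℕ) (t : Term B)

open Classical in
/-- The values of a term. -/
def ev : Term B → ∀ T : Tgt γ J, T.C
  | .of b => fun T => T.ψ b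
  | .add t t' => ev t + ev t'
  | .mul t t' => ev t * ev t'
  | .neg t => -ev t
  | .dp n t => fun T => if ∀ T' : Tgt γ J, ev t T' ∈ T'.K then T.δ.dpow n (ev t T) else 0

/-- The values of all terms. -/
def vals : Subring (∀ T : Tgt γ J, T.C) where
  carrier := Set.range (ev γ J)
  mul_mem' := by rintro _ _ ⟨t, rfl⟩ ⟨t', rfl⟩; exact ⟨.mul t t', rfl⟩
  one_mem' := ⟨.of 1, funext fun T => map_one T.ψ⟩
  add_mem' := by rintro _ _ ⟨t, rfl⟩ ⟨t', rfl⟩; exact ⟨.add t t', rfl⟩
  zero_mem' := ⟨.of 0, funext fun T => map_zero T.ψ⟩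
  neg_mem' := by rintro _ ⟨t, rfl⟩; exact ⟨.neg t, rfl⟩

instance small_vals : Small.{u} (vals γ J) := small_range (ev γ J)

/-- The envelope. -/
abbrev Env : Type u := Shrink.{u} (vals γ J)

/-- Evaluation at a target. -/
def at' (T : Tgt γ J) : Env γ J →+* T.C :=
  ((Pi.evalRingHom (fun T : Tgt γ J => T.C) T).comp (vals γ J).subtype).comp
    (Shrink.ringEquiv (vals γ J)).toRingHom

theorem hom_ext {x y : Env γ J} (h : ∀ T, at' γ J T x = at' γ J T y) : x = y :=
  (equivShrink (vals γ J)).symm.injective (Subtype.ext (funext h))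

/-- The class of a term. -/
def cls (t : Term B) : Env γ J := equivShrink (vals γ J) ⟨ev γ J t, t, rfl⟩

theorem at'_cls (T : Tgt γ J) (t : Term B) : at' γ J T (cls γ J t) = ev γ J t T := by
  show ((equivShrink (vals γ J)).symm (equivShrink (vals γ J) ⟨ev γ J t, t, rfl⟩)).1 T = _
  rw [Equiv.symm_apply_apply]

theorem exists_cls (x : Env γ J) : ∃ t, cls γ J t = x := by
  obtain ⟨t, ht⟩ := ((equivShrink (vals γ J)).symm x).2
  refine ⟨t, (equivShrink (vals γ J)).symm.injective (Subtype.ext ?_)⟩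
  rw [cls, Equiv.symm_apply_apply]
  exact ht

/-- The structure map. -/
def toEnv : B →+* Env γ J where
  toFun b := cls γ J (.of b)
  map_one' := hom_ext γ J fun T => by rw [at'_cls, map_one]; exact map_one T.ψ
  map_mul' a b := hom_ext γ J fun T => by rw [map_mul, at'_cls, at'_cls, at'_cls]; exact map_mul T.ψ a b
  map_zero' := hom_ext γ J fun T => by rw [at'_cls, map_zero]; exact map_zero T.ψ
  map_add' a b := hom_ext γ J fun T => by rw [map_add, at'_cls, at'_cls, at'_cls]; exact map_add T.ψ a b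

theorem at'_toEnv (T : Tgt γ J) (b : B) : at' γ J T (toEnv γ J b) = T.ψ b := at'_cls γ J T _

/-- The ideal of the envelope. -/
def JD : Ideal (Env γ J) where
  carrier := {x | ∀ T, at' γ J T x ∈ T.K}
  add_mem' {x y} hx hy T := by rw [map_add]; exact add_mem (hx T) (hy T)
  zero_mem' T := by rw [map_zero]; exact zero_mem _
  smul_mem' c x hx T := by rw [smul_eq_mul, map_mul]; exact Ideal.mul_mem_left _ _ (hx T)

theorem exists_dp (n : ℕ) (x : Env γ J) :
    ∃ y : Env γ J, (x ∈ JD γ J → ∀ T, at' γ J T y = T.δ.dpow n (at' γ J T x)) ∧ (x ∉ JD γ J → y = 0) := by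
  classical
  obtain ⟨t, rfl⟩ := exists_cls γ J x
  refine ⟨cls γ J (.dp n t), fun h T => ?_, fun h => hom_ext γ J fun T => ?_⟩
  · rw [at'_cls, at'_cls]
    exact if_pos fun T' => at'_cls γ J T' t ▸ h T'
  · rw [at'_cls, map_zero]
    exact if_neg fun h' => h fun T' => (at'_cls γ J T' t).symm ▸ h' T'

/-- The divided powers of the envelope. -/
def dp (n : ℕ) (x : Env γ J) : Env γ J := (exists_dp γ J n x).choose

theorem at'_dp {n : ℕ} {x : Env γ J} (hx : x ∈ JD γ J) (T : Tgt γ J) :
    at' γ J T (dp γ J n x) = T.δ.dpow n (at' γ J T x) :=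
  (exists_dp γ J n x).choose_spec.1 hx T

/-- The divided power structure of the envelope. -/
def γD : DividedPowers (JD γ J) where
  dpow := dp γ J
  dpow_null {n x} hx := (exists_dp γ J n x).choose_spec.2 hx
  dpow_zero {x} hx := hom_ext γ J fun T => by rw [at'_dp γ J hx, map_one]; exact T.δ.dpow_zero (hx T)
  dpow_one {x} hx := hom_ext γ J fun T => by rw [at'_dp γ J hx]; exact T.δ.dpow_one (hx T)
  dpow_mem {n x} hn hx T := by rw [at'_dp γ J hx]; exact T.δ.dpow_mem hn (hx T)
  dpow_add {n x y} hx hy := hom_ext γ J fun T => by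
    rw [at'_dp γ J (add_mem hx hy), map_add, T.δ.dpow_add (hx T) (hy T), map_sum]
    exact sum_congr rfl fun k _ => by rw [map_mul, at'_dp γ J hx, at'_dp γ J hy]
  dpow_mul {n a x} hx := hom_ext γ J fun T => by
    rw [at'_dp γ J (Ideal.mul_mem_left _ _ hx), map_mul, map_mul, map_pow, at'_dp γ J hx, T.δ.dpow_mul (hx T)]
  mul_dpow {m n x} hx := hom_ext γ J fun T => by
    rw [map_mul, map_mul, map_natCast, at'_dp γ J hx, at'_dp γ J hx, at'_dp γ J hx, T.δ.mul_dpow (hx T)]
  dpow_comp {m n x} hn hx := hom_ext γ J fun T => by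
    have hmem : dp γ J n x ∈ JD γ J := fun T' => by rw [at'_dp γ J hx]; exact T'.δ.dpow_mem hn (hx T')
    rw [at'_dp γ J hmem, map_mul, map_natCast, at'_dp γ J hx, at'_dp γ J hx, T.δ.dpow_comp hn (hx T)]

theorem map_le : J.map (toEnv γ J) ≤ JD γ J :=
  Ideal.map_le_iff_le_comap.2 fun b hb T => by
    rw [at'_toEnv]; exact T.hψ (Ideal.mem_map_of_mem _ hb)

theorem isDPMorphism_toEnv : γ.IsDPMorphism (γD γ J) ((toEnv γ J).comp (algebraMap A B)) := by
  have h : ∀ T a, at' γ J T ((toEnv γ J).comp (algebraMap A B) a) = algebraMap A T.C a := fun T a => by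
    rw [RingHom.comp_apply, at'_toEnv, AlgHom.commutes]
  have hI : ∀ a ∈ I, (toEnv γ J).comp (algebraMap A B) a ∈ JD γ J := fun a ha T => by
    rw [h]; exact T.hγ.ideal_comp (Ideal.mem_map_of_mem _ ha)
  refine ⟨Ideal.map_le_iff_le_comap.2 hI, fun {n} a ha => hom_ext γ J fun T => ?_⟩
  show at' γ J T (dp γ J n _) = _
  rw [at'_dp γ J (hI a ha), h, h, T.hγ.dpow_comp a ha]

theorem eq_at' (T : Tgt γ J) (χ : Env γ J →+* T.C) (h1 : ∀ b, χ (toEnv γ J b) = T.ψ b)
    (h2 : (γD γ J).IsDPMorphism T.δ χ) (t : Term B) : χ (cls γ J t) = at' γ J T (cls γ J t) := by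
  classical
  induction t with
  | of b =>
    rw [show cls γ J (.of b) = toEnv γ J b from rfl, h1, at'_toEnv]
  | add t t' ht ht' =>
    rw [show cls γ J (.add t t') = cls γ J t + cls γ J t' from
      hom_ext γ J fun T => by rw [map_add, at'_cls, at'_cls, at'_cls]; rfl, map_add, map_add, ht, ht']
  | mul t t' ht ht' =>
    rw [show cls γ J (.mul t t') = cls γ J t * cls γ J t' from
      hom_ext γ J fun T => by rw [map_mul, at'_cls, at'_cls, at'_cls]; rfl, map_mul, map_mul, ht, ht']
  | neg t ht =>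
    rw [show cls γ J (.neg t) = -cls γ J t from
      hom_ext γ J fun T => by rw [map_neg, at'_cls, at'_cls]; rfl, map_neg, map_neg, ht]
  | dp n t ht =>
    by_cases hP : ∀ T', ev γ J t T' ∈ T'.K
    · have hmem : cls γ J t ∈ JD γ J := fun T' => (at'_cls γ J T' t).symm ▸ hP T'
      have he : cls γ J (.dp n t) = dp γ J n (cls γ J t) := hom_ext γ J fun T' => by
        rw [at'_dp γ J hmem, at'_cls, at'_cls]; exact if_pos hP
      rw [he, at'_dp γ J hmem, ← ht]
      exact (h2.dpow_comp _ hmem).symm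
    · have he : cls γ J (.dp n t) = 0 := hom_ext γ J fun T' => by
        rw [map_zero, at'_cls]; exact if_neg hP
      rw [he, map_zero, map_zero]

end Groth.Agent.DPEnvelope
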